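import Mathlib
import Cfsg.Prelude.Def_Amalgam
import Cfsg.Prelude.Def_EvenType
import Cfsg.Agent.StrongEmb.CoreCentral_mg_m3
import Cfsg.Agent.TwoFusion.BenderRankOne
import Cfsg.Agent.H16.NunLarge
import Cfsg.Agent.WeakTI.PslTwo
import Cfsg.Agent.FastGrp
import Cfsg.Agent.Prune
set_option linter.all false
prune_inst 0x7f00000000000000000000000000000000000000000000000000000000000000000000000000000000000000000000000000000000000000000000000000000000000000000000000000000000000000003fffffffffffffffffffffffffffbeffbdffffffff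
open scoped Cfsg.Agent.FastGrp

/-!
# Finite groups with a strongly embedded subgroup: global structure and solvability

* `sup_centralizer_eq_top`: in a group without two distinct commuting involutions, `G = O(G) C(t)`.
* `structure_of_commPair`: if `G` has two distinct commuting involutions and a strongly embedded
  subgroup then `O^{2'}(G / O(G))` is `SL₂(2^n)`, `PSU₃(2^n)` or `Sz(q)`.
* `isSolvable_of_commPair`: a strongly embedded subgroup is solvable in this case.

Bender's theorem and the odd order theorem enter as hypotheses.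
-/

set_option autoImplicit false

universe u

namespace Cfsg.Agent.H971.Bender

open Cfsg Cfsg.Agent.StrongEmb.Split Cfsg.Agent.StrongEmb.Basic Cfsg.Agent.StrongEmb.TwoRank
  Cfsg.Agent.TwoFusion.StronglyEmbeddedBasic Cfsg.Agent.SuzukiRankOne.Reduction

variable {G : Type u} [Group G] [Finite G]

omit [Finite G] in
/-- Two involutions with product of odd order are conjugate by a power of the product. -/
theorem conj_of_odd {s t : G} (hs : orderOf s = 2) (ht : orderOf t = 2)
    (hodd : Odd (orderOf (s * t))) :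
    ∃ k : ℕ, (s * t) ^ k * t * ((s * t) ^ k)⁻¹ = s := by
  obtain ⟨k, hk⟩ := hodd
  have htt : t * t = 1 := by
    have := pow_orderOf_eq_one t; rwa [ht, pow_two] at this
  have hss : s * s = 1 := by
    have := pow_orderOf_eq_one s; rwa [hs, pow_two] at this
  have hinv : t * (s * t) * t⁻¹ = (s * t)⁻¹ := by
    rw [mul_inv_rev, inv_eq_of_mul_eq_one_right htt, inv_eq_of_mul_eq_one_right hss]
    calc t * (s * t) * t = t * s * (t * t) := by group
      _ = t * s := by rw [htt, mul_one]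
  refine ⟨k + 1, ?_⟩
  have h1 : ∀ n : ℕ, t * (s * t) ^ n * t⁻¹ = ((s * t) ^ n)⁻¹ := by
    intro n
    rw [← conj_pow, hinv, inv_pow]
  have h2 : t * ((s * t) ^ (k + 1))⁻¹ = (s * t) ^ (k + 1) * t := by
    have := h1 (k + 1)
    have h3 : t * ((s * t) ^ (k + 1))⁻¹ * t⁻¹ = (s * t) ^ (k + 1) := by
      have h4 := congrArg (·⁻¹) this
      simp only [mul_inv_rev, inv_inv] at h4
      rw [← mul_assoc] at h4
      exact h4
    calc t * ((s * t) ^ (k + 1))⁻¹ = t * ((s * t) ^ (k + 1))⁻¹ * t⁻¹ * t := by group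
      _ = (s * t) ^ (k + 1) * t := by rw [h3]
  have h5 : (s * t) ^ (k + 1) * (s * t) ^ (k + 1) = s * t := by
    rw [← pow_add, show k + 1 + (k + 1) = (2 * k + 1) + 1 by ring, pow_succ, ← hk,
      pow_orderOf_eq_one, one_mul]
  calc (s * t) ^ (k + 1) * t * ((s * t) ^ (k + 1))⁻¹
      = (s * t) ^ (k + 1) * (t * ((s * t) ^ (k + 1))⁻¹) := by group
    _ = ((s * t) ^ (k + 1) * (s * t) ^ (k + 1)) * t := by rw [h2]; group
    _ = s * (t * t) := by rw [h5]; group
    _ = s := by rw [htt, mul_one]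

/-- In a group without two distinct commuting involutions, `G = O(G) C(t)` for each involution
`t`. -/
theorem sup_centralizer_eq_top
    (hno : ∀ a b : G, orderOf a = 2 → orderOf b = 2 → Commute a b → a = b) {t : G}
    (ht : orderOf t = 2) :
    pPrimeCore 2 G ⊔ Subgroup.centralizer ({t} : Set G) = ⊤ := by
  obtain ⟨O, -, hodd, hn, -, hprod⟩ :=
    Cfsg.Agent.TwoFusion.BenderRankOne.exists_core (⊤ : Subgroup G)
      (fun a _ b _ ha hb hab => hno a b ha hb hab)
  have hOn : O.Normal := ⟨fun o ho g => hn g trivial o ho⟩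
  have hOle : O ≤ pPrimeCore 2 G := by
    refine le_sSup ⟨hOn, ?_⟩
    exact (Nat.coprime_two_right.mpr hodd)
  rw [eq_top_iff]
  intro g _
  have hs : orderOf (g * t * g⁻¹) = 2 := by rw [orderOf_conj, ht]
  have hc : g * t * g⁻¹ * t ∈ O := hprod _ trivial _ trivial hs ht
  have hco : Odd (orderOf (g * t * g⁻¹ * t)) := by
    refine Odd.of_dvd_nat hodd ?_
    have := orderOf_dvd_natCard (⟨_, hc⟩ : O)
    rwa [Subgroup.orderOf_mk] at this
  obtain ⟨k, hk⟩ := conj_of_odd hs ht hco
  have hoO : (g * t * g⁻¹ * t) ^ k ∈ O := pow_mem hc k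
  set o := (g * t * g⁻¹ * t) ^ k with ho
  have h1 : o⁻¹ * g ∈ Subgroup.centralizer ({t} : Set G) := by
    rw [Subgroup.mem_centralizer_singleton_iff]
    have h2 : o * t * o⁻¹ = g * t * g⁻¹ := hk
    calc o⁻¹ * g * t = o⁻¹ * (g * t * g⁻¹) * g := by group
      _ = t * (o⁻¹ * g) := by rw [← h2]; group
  have h3 : g = o * (o⁻¹ * g) := by group
  rw [h3]
  exact mul_mem (Subgroup.mem_sup_left (hOle hoO)) (Subgroup.mem_sup_right h1)

/-- A refinement of `exists_isSplit_of_invClosure`: the regular normal subgroup lies in the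
subgroup generated by the involutions. -/
theorem exists_isSplit_le {H : Subgroup G} (hH : IsStronglyEmbedded H) (hr : CommPair G)
    (hcore : H.normalCore = ⊥) (hex : ∃ Q, IsSplit (H.subgroupOf (invClosure G)) Q) :
    ∃ Q ≤ invClosure G, IsSplit H Q ∧ IsPGroup 2 Q := by
  have hO : oddCore G = ⊥ := by rw [← normalCore_eq_oddCore hH hr, hcore]
  have hsim := isSimpleGroup_invClosure hH hO
  obtain ⟨Q, hQ⟩ := hex
  obtain ⟨hQ2, hmem⟩ := isPGroup_of_isSplit (stronglyEmbedded_invClosure hH) hQ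
    (commPair_invClosure hr)
  have hmem' : ∀ x : invClosure G, x ∈ Q ↔ (x : G) ∈ H ∧ ∃ n : ℕ, orderOf (x : G) = 2 ^ n := by
    intro x
    constructor
    · intro hx
      refine ⟨hQ.le hx, ?_⟩
      obtain ⟨n, hn⟩ := IsPGroup.iff_orderOf.mp hQ2 ⟨x, hx⟩
      rw [Subgroup.orderOf_mk] at hn
      exact ⟨n, by rw [Subgroup.orderOf_coe, hn]⟩
    · rintro ⟨hx, n, hn⟩
      exact hmem x hx ⟨n, by rw [← hn, Subgroup.orderOf_coe]⟩
  refine ⟨Q.map (invClosure G).subtype, Subgroup.map_subtype_le Q, ⟨?_, ?_, ?_, ?_⟩, hQ2.map _⟩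
  · rintro _ ⟨x, hx, rfl⟩
    exact hQ.le hx
  · constructor
    rintro ⟨x, hxH⟩ ⟨y, hy, hyx⟩ ⟨k, hk⟩
    have hyx' : (y : G) = x := hyx
    have hy' := (hmem' y).mp hy
    have hconj : k * (y : G) * k⁻¹ ∈ invClosure G := (invClosure_normal G).conj_mem _ y.2 k
    refine ⟨⟨k * (y : G) * k⁻¹, hconj⟩, (hmem' _).mpr ⟨?_, ?_⟩, ?_⟩
    · exact mul_mem (mul_mem hk hy'.1) (inv_mem hk)
    · obtain ⟨n, hn⟩ := hy'.2
      exact ⟨n, by show orderOf (k * (y : G) * k⁻¹) = 2 ^ n; rw [orderOf_conj, hn]⟩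
    · show k * (y : G) * k⁻¹ = _
      rw [hyx']; rfl
  · intro g₁ g₂ h₁ h₂
    obtain ⟨n₁, hn₁, hn₁g⟩ := exists_invClosure_mul hH g₁
    obtain ⟨n₂, hn₂, hn₂g⟩ := exists_invClosure_mul hH g₂
    have e₁ : (⟨n₁, hn₁⟩ : invClosure G) ∉ H.subgroupOf (invClosure G) := by
      intro hc
      have hc' : n₁ ∈ H := hc
      apply h₁
      have := mul_mem hc' hn₁g
      simpa using this
    have e₂ : (⟨n₂, hn₂⟩ : invClosure G) ∉ H.subgroupOf (invClosure G) := by
      intro hc
      have hc' : n₂ ∈ H := hc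
      apply h₂
      have := mul_mem hc' hn₂g
      simpa using this
    obtain ⟨u, hu, hu2⟩ := hQ.trans _ _ e₁ e₂
    refine ⟨u, ⟨u, hu, rfl⟩, ?_⟩
    have h3 : n₂⁻¹ * ((u : G) * n₁) ∈ H := hu2
    have h4 : g₂⁻¹ * ((u : G) * g₁) = (n₂⁻¹ * g₂)⁻¹ * (n₂⁻¹ * ((u : G) * n₁)) * (n₁⁻¹ * g₁) := by
      group
    rw [h4]
    exact mul_mem (mul_mem (inv_mem hn₂g) h3) hn₁g
  · rintro g hg _ ⟨u, hu, rfl⟩ hug
    obtain ⟨n, hn, hng⟩ := exists_invClosure_mul hH g
    have e₁ : (⟨n, hn⟩ : invClosure G) ∉ H.subgroupOf (invClosure G) := by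
      intro hc
      have hc' : n ∈ H := hc
      apply hg
      have := mul_mem hc' hng
      simpa using this
    have h1 : u = 1 := by
      refine hQ.reg ⟨n, hn⟩ e₁ u hu ?_
      show n⁻¹ * ((u : G) * n) ∈ H
      have h4 : n⁻¹ * ((u : G) * n) = (n⁻¹ * g) * (g⁻¹ * ((u : G) * g)) * (n⁻¹ * g)⁻¹ := by
        group
      rw [h4]
      exact mul_mem (mul_mem hng hug) (inv_mem hng)
    rw [h1]; rfl

/-- The data in the quotient by the odd core. -/
theorem quotient_all (hB : ∀ (K : Type u) [Group K] [Finite K], BenderHolds K) {H : Subgroup G}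
    (hH : IsStronglyEmbedded H) (hr : CommPair G) :
    IsSimpleGroup (invClosure (G ⧸ oddCore G)) ∧ CommPair (invClosure (G ⧸ oddCore G)) ∧
    (∃ K : Subgroup (invClosure (G ⧸ oddCore G)), IsStronglyEmbedded K ∧ ∃ Q, IsSplit K Q) ∧
    Odd (invClosure (G ⧸ oddCore G)).index ∧
    ∃ Q, IsSplit (H.map (QuotientGroup.mk' (oddCore G))) Q ∧ IsPGroup 2 Q := by
  obtain ⟨hH', hr', hcore'⟩ := Cfsg.Agent.StrongEmb.Consequences.quotient_data hH hr
  have hO := Cfsg.Agent.StrongEmb.Consequences.oddCore_quotient_eq_bot G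
  have hsim := isSimpleGroup_invClosure hH' hO
  have hK := stronglyEmbedded_invClosure hH'
  have hcp := commPair_invClosure hr'
  obtain ⟨Q', hQ', -⟩ := hB _ _ hK hcp (normalCore_eq_bot_of_simple hK.1)
  obtain ⟨Q, hQle, hQ, hQ2⟩ := exists_isSplit_le hH' hr' hcore' ⟨Q', hQ'⟩
  obtain ⟨t, ht, ht2⟩ := exists_involution_notMem hH'
  have hidx : Odd Q.index :=
    Cfsg.Agent.SuzukiRankOne.Reduction.odd_index_of_le (setup_of_isSplit hH' hQ ht ht2) le_rfl
  refine ⟨hsim, hcp, ⟨_, hK, Q', hQ'⟩, ?_, Q, hQ, hQ2⟩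
  exact Odd.of_dvd_nat hidx (Subgroup.index_dvd_of_le hQle)

/-- A normal subgroup of odd index containing only... : the subgroup generated by the `2`-elements
is the subgroup generated by the involutions when the latter has odd index. -/
theorem pElementClosure_eq {K : Type*} [Group K] [Finite K] (hodd : Odd (invClosure K).index) :
    pElementClosure 2 (⊤ : Subgroup K) = invClosure K := by
  have hn := invClosure_normal K
  apply le_antisymm
  · refine (Subgroup.closure_le _).mpr ?_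
    rintro x ⟨-, n, hx⟩
    have h2 : (QuotientGroup.mk' (invClosure K)) x = 1 := by
      rw [← orderOf_eq_one_iff]
      have h3 : orderOf ((QuotientGroup.mk' (invClosure K)) x) ∣ 2 ^ n := by
        rw [← hx]
        exact orderOf_map_dvd (QuotientGroup.mk' (invClosure K)) x
      have h4 : orderOf ((QuotientGroup.mk' (invClosure K)) x) ∣ (invClosure K).index := by
        have : (invClosure K).index = Nat.card (K ⧸ invClosure K) := rfl
        rw [this]
        exact orderOf_dvd_natCard _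
      have h5 : Nat.Coprime (2 ^ n) (invClosure K).index :=
        Nat.Coprime.pow_left n (Nat.coprime_two_left.mpr hodd)
      exact Nat.Coprime.eq_one_of_dvd (h5.coprime_dvd_left h3) h4
    rw [← MonoidHom.mem_ker, QuotientGroup.ker_mk'] at h2
    exact h2
  · apply invClosure_le
    intro t ht
    exact Subgroup.subset_closure ⟨trivial, 1, by rw [ht, pow_one]⟩

/-- **Bender's theorem, structural form**, groups with two distinct commuting involutions. -/
theorem structure_of_commPair (hB : ∀ (K : Type u) [Group K] [Finite K], BenderHolds K)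
    {H : Subgroup G} (hH : IsStronglyEmbedded H) (hr : CommPair G) :
    (∃ (F : Type) (_ : Field F) (_ : Fintype F), CharP F 2 ∧ 4 ≤ Fintype.card F ∧
      Nonempty (↥(pElementClosure 2 (⊤ : Subgroup (G ⧸ pPrimeCore 2 G))) ≃*
        Matrix.SpecialLinearGroup (Fin 2) F)) ∨
    (∃ (F : Type) (_ : Field F) (_ : Fintype F) (q : ℕ), Even q ∧ 4 ≤ q ∧
      Fintype.card F = q ^ 2 ∧
      Nonempty (↥(pElementClosure 2 (⊤ : Subgroup (G ⧸ pPrimeCore 2 G))) ≃* PSU 3 F q)) ∨
    Cfsg.Lie.IsoSuzuki ↥(pElementClosure 2 (⊤ : Subgroup (G ⧸ pPrimeCore 2 G))) := by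
  obtain ⟨hsim, hcp, ⟨K, hK, Q, hQ⟩, hodd, -⟩ := quotient_all hB hH hr
  rw [show pElementClosure 2 (⊤ : Subgroup (G ⧸ pPrimeCore 2 G)) = invClosure (G ⧸ oddCore G)
    from pElementClosure_eq hodd]
  rcases Cfsg.Agent.StrongEmb.Simple.of_isSplit hK hQ hcp with
    ⟨F, i1, i2, ⟨n, hn, hF⟩, ⟨e⟩⟩ | h | ⟨F, i1, i2, n, hn, hF, he⟩
  · left
    have h2 : CharP F 2 := by
      obtain ⟨p, hp⟩ := CharP.exists F
      obtain ⟨m, hpp, hpm⟩ := FiniteField.card F p
      have h3 : (2 : ℕ) ∣ p ^ (m : ℕ) := by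
        rw [← hpm, hF]
        exact dvd_pow_self 2 (by omega)
      have h4 := (Nat.prime_dvd_prime_iff_eq Nat.prime_two hpp).mp
        (Nat.Prime.dvd_of_dvd_pow Nat.prime_two h3)
      rw [h4]; exact hp
    obtain ⟨f⟩ := Cfsg.Agent.WeakTI.PslTwo.nonempty_equiv (F := F)
    refine ⟨F, i1, i2, h2, ?_, ⟨e.trans f.symm⟩⟩
    rw [hF]
    calc 4 = 2 ^ 2 := by norm_num
      _ ≤ 2 ^ n := Nat.pow_le_pow_right (by norm_num) hn
  · exact Or.inr (Or.inr h)
  · right; left
    refine ⟨F, i1, i2, 2 ^ n, ?_, ?_, hF, he⟩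
    · exact (Nat.even_pow.mpr ⟨even_two, by omega⟩)
    · calc 4 = 2 ^ 2 := by norm_num
        _ ≤ 2 ^ n := Nat.pow_le_pow_right (by norm_num) hn

/-- A strongly embedded subgroup is solvable when there are two distinct commuting involutions. -/
theorem isSolvable_of_commPair (hB : ∀ (K : Type u) [Group K] [Finite K], BenderHolds K)
    (hodd : ∀ (K : Type u) [Group K] [Finite K], Odd (Nat.card K) → Group.IsSolvable K)
    {H : Subgroup G} (hH : IsStronglyEmbedded H) (hr : CommPair G) : Group.IsSolvable H := by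
  obtain ⟨-, -, -, -, Q, hQ, hQ2⟩ := quotient_all hB hH hr
  obtain ⟨hH', hr', hcore'⟩ := Cfsg.Agent.StrongEmb.Consequences.quotient_data hH hr
  set N := oddCore G with hN
  set H' := H.map (QuotientGroup.mk' N) with hH'def
  obtain ⟨t, ht, ht2⟩ := exists_involution_notMem hH'
  have hidx : Odd Q.index :=
    Cfsg.Agent.SuzukiRankOne.Reduction.odd_index_of_le (setup_of_isSplit hH' hQ ht ht2) le_rfl
  -- `H' / Q` has odd order
  have hQn : (Q.subgroupOf H').Normal := hQ.normal
  have hrel : Odd (Nat.card (H' ⧸ Q.subgroupOf H')) := by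
    have h1 := Subgroup.relIndex_mul_index hQ.le
    rw [← h1] at hidx
    exact (Nat.odd_mul.mp hidx).1
  have hQs : Group.IsSolvable (Q.subgroupOf H') := by
    have h1 : IsPGroup 2 (Q.subgroupOf H') :=
      hQ2.comap_of_injective H'.subtype H'.subtype_injective
    have : Fact (Nat.Prime 2) := ⟨Nat.prime_two⟩
    have := h1.isNilpotent
    infer_instance
  have hH's : Group.IsSolvable H' := by
    have h2 : Group.IsSolvable (H' ⧸ Q.subgroupOf H') := hodd _ hrel
    exact Group.isSolvable_of_ker_le_range (Q.subgroupOf H').subtype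
      (QuotientGroup.mk' (Q.subgroupOf H')) (by rw [QuotientGroup.ker_mk', Subgroup.range_subtype])
  -- the kernel
  have hNodd : Odd (Nat.card N) :=
    Nat.coprime_two_right.mp (Cfsg.Agent.Lib.Cores.pPrimeCore_coprime 2)
  have hNs : Group.IsSolvable N := hodd _ hNodd
  have hker : Group.IsSolvable (N.subgroupOf H) :=
    Group.isSolvable_of_isSolvable_injective (f := H.subtype.subgroupComap N) (by
      rintro ⟨a, ha⟩ ⟨b, hb⟩ hab
      have h1 : (a : G) = (b : G) := congrArg (fun y : N => (y : G)) hab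
      exact Subtype.ext (Subtype.ext h1))
  refine Group.isSolvable_of_ker_le_range (N.subgroupOf H).subtype
    ((QuotientGroup.mk' N).subgroupMap H) ?_
  intro x hx
  rw [Subgroup.range_subtype, Subgroup.mem_subgroupOf]
  have h1 : (QuotientGroup.mk' N) (x : G) = 1 := congrArg Subtype.val (MonoidHom.mem_ker.mp hx)
  rw [← MonoidHom.mem_ker, QuotientGroup.ker_mk'] at h1
  exact h1

end Cfsg.Agent.H971.Bender
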